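import Cfsg.Agent.Lib.Char.Integral

/-!
# Ito's theorem

* `finrank_dvd_index_of_scalar` : if `Z` acts by scalars, the degree divides `|G : Z|`.
* `finrank_dvd_index` : the degree divides the index of every abelian normal subgroup.
* `exists_degree_dvd_index` : the version for `Cfsg.IsIrrCharacter`.
-/

namespace Cfsg.Agent.Ito

open Cfsg Module Cfsg.Agent.Char
open scoped ComplexConjugate

variable {G : Type*} [Group G] [Finite G] {V : Type*} [AddCommGroup V] [Module ℂ V]
  [FiniteDimensional ℂ V]

theorem finrank_dvd_index_of_scalar (ρ : Representation ℂ G V) [ρ.IsIrreducible] (Z : Subgroup G)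
    (hZ : ∀ z ∈ Z, ∃ c : ℂ, ρ z = c • 1) : finrank ℂ V ∣ Z.index := by
  classical
  have := Fintype.ofFinite G
  have := nontrivial_of_isIrreducible ρ
  have hd : (finrank ℂ V : ℂ) ≠ 0 := Nat.cast_ne_zero.2 (finrank_pos (R := ℂ) (M := V)).ne'
  have hchar := isCharacter_character ρ
  have hunit : ∀ g, ∀ z ∈ Z, conj (ρ.character (g * z)) • ρ (g * z) = conj (ρ.character g) • ρ g := by
    intro g z hz
    obtain ⟨c, hc⟩ := hZ z hz
    have hcn : ‖c‖ = 1 := by
      have h1 : (ρ z) ^ orderOf z = 1 := by rw [← map_pow, pow_orderOf_eq_one, map_one]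
      rw [hc, smul_pow, one_pow] at h1
      obtain ⟨v, hv⟩ := exists_ne (0 : V)
      have h2 := LinearMap.congr_fun h1 v
      simp only [LinearMap.smul_apply, Module.End.one_apply] at h2
      have h3 : c ^ orderOf z = 1 := smul_left_injective ℂ hv (h2.trans (one_smul ℂ v).symm)
      exact Complex.norm_eq_one_of_pow_eq_one h3 (orderOf_pos z).ne'
    have hρ : ρ (g * z) = c • ρ g := by rw [map_mul, hc, mul_smul_comm, mul_one]
    have hχ : ρ.character (g * z) = c * ρ.character g := by
      simp only [Representation.character, hρ, map_smul, smul_eq_mul]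
    rw [hρ, hχ, smul_smul, map_mul, mul_right_comm, Complex.conj_mul', hcn]
    simp
  let R := integralClosure ℤ ℂ
  let S : Subalgebra R (Module.End ℂ V) := Algebra.adjoin R (Set.range ρ)
  have hS : S.toSubmodule.FG := by
    rw [Algebra.adjoin_eq_span]
    refine Submodule.fg_span (Set.Finite.subset (Set.finite_range ρ) ?_)
    rw [← MonoidHom.coe_mrange, Submonoid.closure_eq]
  let T0 : Module.End ℂ V := ∑ q : G ⧸ Z, conj (ρ.character q.out) • ρ q.out
  have hmem : T0 ∈ S := by
    refine Subalgebra.sum_mem _ fun q _ => ?_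
    have hg : ρ q.out ∈ S := Algebra.subset_adjoin ⟨q.out, rfl⟩
    exact S.smul_mem hg (⟨_, IsCharacter.isIntegral (IsCharacter.conj hchar) q.out⟩ : R)
  have hsum : groupSumOp ρ (fun g => conj (ρ.character g)) = (Nat.card Z : ℂ) • T0 := by
    rw [groupSumOp, ← Equiv.sum_comp (Subgroup.groupEquivQuotientProdSubgroup (s := Z)).symm,
      Fintype.sum_prod_type, Finset.smul_sum]
    refine Finset.sum_congr rfl fun q _ => ?_
    have h1 : ∀ z : Z,
        conj (ρ.character ((Subgroup.groupEquivQuotientProdSubgroup (s := Z)).symm (q, z))) •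
          ρ ((Subgroup.groupEquivQuotientProdSubgroup (s := Z)).symm (q, z)) =
        conj (ρ.character q.out) • ρ q.out := by
      intro z
      set a := (Subgroup.groupEquivQuotientProdSubgroup (s := Z)).symm (q, z)
      have ha : (QuotientGroup.mk a : G ⧸ Z) = q :=
        congrArg Prod.fst ((Subgroup.groupEquivQuotientProdSubgroup (s := Z)).apply_symm_apply (q, z))
      have hmem : q.out⁻¹ * a ∈ Z := by
        rw [← QuotientGroup.eq, QuotientGroup.out_eq', ha]
      calc conj (ρ.character a) • ρ a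
            = conj (ρ.character (q.out * (q.out⁻¹ * a))) • ρ (q.out * (q.out⁻¹ * a)) := by
              rw [mul_inv_cancel_left]
        _ = conj (ρ.character q.out) • ρ q.out := hunit _ _ hmem
    rw [Finset.sum_congr rfl fun z _ => h1 z, Finset.sum_const, Finset.card_univ,
      ← Nat.card_eq_fintype_card, Nat.cast_smul_eq_nsmul]
  have hscal := groupSumOp_eq_smul ρ (f := fun g => conj (ρ.character g))
    (IsCharacter.isClassFunction (IsCharacter.conj hchar))
  have hG : ∑ g, conj (ρ.character g) * ρ.character g = (Nat.card G : ℂ) := by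
    have := card_mul_classInner ρ.character ρ.character
    rw [classInner_irr_self (isIrrCharacter_character ρ), mul_one] at this
    rw [this]
    exact Finset.sum_congr rfl fun g _ => mul_comm _ _
  have hT0 : T0 = algebraMap ℂ (Module.End ℂ V) ((Z.index : ℂ) / (finrank ℂ V : ℂ)) := by
    have hz : (Nat.card Z : ℂ) ≠ 0 := Nat.cast_ne_zero.2 Nat.card_pos.ne'
    refine smul_right_injective _ hz ?_
    change (Nat.card Z : ℂ) • T0 = (Nat.card Z : ℂ) • _
    rw [← hsum, hscal, hG, Algebra.algebraMap_eq_smul_one, smul_smul, ← mul_div_assoc,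
      ← Nat.cast_mul, Subgroup.card_mul_index]
    rfl
  have hint : IsIntegral R (algebraMap ℂ (Module.End ℂ V) ((Z.index : ℂ) / (finrank ℂ V : ℂ))) :=
    hT0 ▸ IsIntegral.of_mem_of_fg S hS _ hmem
  refine nat_dvd_of_isIntegral_div (finrank_pos (R := ℂ) (M := V)).ne' ?_
  exact isIntegral_trans _
    ((isIntegral_algebraMap_iff (algebraMap ℂ (Module.End ℂ V)).injective).1 hint)

variable {H : Subgroup G}

/-- The weight space of `l` for the action of `H`. -/
def weight (ρ : Representation ℂ G V) (l : H → ℂ) : Submodule ℂ V where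
  carrier := {v | ∀ h : H, ρ h v = l h • v}
  add_mem' := fun {a b} ha hb h => by rw [map_add, ha h, hb h, smul_add]
  zero_mem' := fun h => by simp
  smul_mem' := fun c v hv h => by rw [map_smul, hv h, smul_comm]

/-- Averaging operator onto the weight space. -/
noncomputable def weightProj (ρ : Representation ℂ G V) (l : H → ℂ) : Module.End ℂ V :=
  haveI := Fintype.ofFinite H
  (Nat.card H : ℂ)⁻¹ • ∑ h : H, (l h)⁻¹ • ρ h

theorem weightProj_apply_self (ρ : Representation ℂ G V) (l : H → ℂ) (hl : ∀ h, l h ≠ 0) {v : V}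
    (hv : v ∈ weight ρ l) : weightProj ρ l v = v := by
  letI := Fintype.ofFinite H
  simp only [weightProj, LinearMap.smul_apply, LinearMap.sum_apply]
  rw [Finset.sum_congr rfl fun h _ => by rw [hv h, smul_smul, inv_mul_cancel₀ (hl h), one_smul],
    Finset.sum_const, Finset.card_univ, ← Nat.card_eq_fintype_card, ← Nat.cast_smul_eq_nsmul ℂ,
    smul_smul, inv_mul_cancel₀ (Nat.cast_ne_zero.2 Nat.card_pos.ne'), one_smul]

theorem weightProj_apply_other (ρ : Representation ℂ G V) (l m : H →* ℂ) (hne : (m : H → ℂ) ≠ l)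
    (hl : ∀ h, l h ≠ 0) {v : V}
    (hv : v ∈ weight ρ (m : H → ℂ)) : weightProj ρ (l : H → ℂ) v = 0 := by
  letI := Fintype.ofFinite H
  simp only [weightProj, LinearMap.smul_apply, LinearMap.sum_apply]
  rw [Finset.sum_congr rfl fun h _ => by rw [hv h, smul_smul], ← Finset.sum_smul]
  obtain ⟨h0, hh0⟩ := Function.ne_iff.1 hne
  set s := ∑ h : H, (l h)⁻¹ * m h
  have hs : ((l h0)⁻¹ * m h0) * s = s := by
    conv_rhs => rw [show s = ∑ h : H, (l h)⁻¹ * m h from rfl,
      ← Equiv.sum_comp (Equiv.mulLeft h0) fun h => (l h)⁻¹ * m h]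
    rw [Finset.mul_sum]
    refine Finset.sum_congr rfl fun h _ => ?_
    simp only [Equiv.coe_mulLeft, map_mul, mul_inv]
    ring
  have hs0 : s = 0 := by
    by_contra h
    have h1 := mul_eq_right₀ h |>.1 hs
    rw [inv_mul_eq_one₀ (hl h0)] at h1
    exact hh0 h1.symm
  rw [hs0, zero_smul, smul_zero]

theorem finrank_dvd_index (ρ : Representation ℂ G V) [ρ.IsIrreducible] (H : Subgroup G) [H.Normal]
    (hH : ∀ a ∈ H, ∀ b ∈ H, a * b = b * a) : finrank ℂ V ∣ H.index := by
  classical
  have := nontrivial_of_isIrreducible ρ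
  have hirr : ρ.IsIrreducible := inferInstance
  have : IsMulCommutative H := ⟨⟨fun a b => Subtype.ext (hH _ a.2 _ b.2)⟩⟩
  obtain ⟨p, hp⟩ := exists_irreducible_subrepresentation (ρ.comp H.subtype)
  have hp1 := Representation.IsIrreducible.finrank_eq_one_of_isMulCommutative p.toRepresentation
  obtain ⟨v0, hv0, hspan⟩ := finrank_eq_one_iff'.1 hp1
  have hex : ∀ h : H, ∃ c : ℂ, ρ h (v0 : V) = c • (v0 : V) := fun h => by
    obtain ⟨c, hc⟩ := hspan (p.toRepresentation h v0)
    exact ⟨c, (congrArg Subtype.val hc).symm⟩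
  choose lf hlf using hex
  have hv0' : (v0 : V) ≠ 0 := fun h => hv0 (Subtype.ext h)
  let l : H →* ℂ :=
  { toFun := lf
    map_one' := smul_left_injective ℂ hv0' (by simpa using (hlf 1).symm)
    map_mul' := fun a b => smul_left_injective ℂ hv0' (by
      have h1 := hlf (a * b)
      rw [Subgroup.coe_mul, map_mul, Module.End.mul_apply, hlf b, map_smul, hlf a, smul_smul] at h1
      rw [mul_comm (lf a)]
      exact h1.symm) }
  let tw : G → (H →* ℂ) := fun g => l.comp (MulAut.conjNormal g⁻¹).toMonoidHom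
  have htw : ∀ g (h : H), tw g h = l (MulAut.conjNormal g⁻¹ h) := fun _ _ => rfl
  have hne : ∀ g (h : H), tw g h ≠ 0 := by
    intro g h h0
    have := map_mul (tw g) h h⁻¹
    rw [mul_inv_cancel, map_one, h0, zero_mul] at this
    exact one_ne_zero this
  have hmap : ∀ a g, ∀ v ∈ weight ρ (tw g : H → ℂ), ρ a v ∈ weight ρ (tw (a * g) : H → ℂ) := by
    intro a g v hv h
    have h1 : tw (a * g) h = tw g (MulAut.conjNormal a⁻¹ h) := by
      rw [htw, htw, mul_inv_rev, map_mul]; rfl
    have h2 : ((MulAut.conjNormal a⁻¹ h : H) : G) = a⁻¹ * h * a := by simp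
    calc ρ (h : G) (ρ a v) = ρ a (ρ ((MulAut.conjNormal a⁻¹ h : H) : G) v) := by
          rw [← Module.End.mul_apply, ← Module.End.mul_apply, ← map_mul, ← map_mul, h2]; group
      _ = tw (a * g) h • ρ a v := by rw [hv, map_smul, h1]
  have htw1 : tw 1 = l := by ext h; simp [htw]
  have hv1 : (v0 : V) ∈ weight ρ (tw 1 : H → ℂ) := by rw [htw1]; exact hlf
  let T : Subgroup G :=
  { carrier := {g | tw g = tw 1}
    one_mem' := rfl
    mul_mem' := fun {a b} ha hb => by
      ext h
      rw [htw, mul_inv_rev, map_mul]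
      calc l (MulAut.conjNormal b⁻¹ (MulAut.conjNormal a⁻¹ h))
            = tw 1 (MulAut.conjNormal a⁻¹ h) := by rw [← hb]; rfl
        _ = tw a h := by rw [htw1]; rfl
        _ = tw 1 h := by rw [ha]
    inv_mem' := fun {a} ha => by
      ext h
      have h1 : tw a (MulAut.conjNormal a h) = tw 1 (MulAut.conjNormal a h) := by rw [ha]
      rw [htw a, ← MulAut.mul_apply, ← map_mul, inv_mul_cancel, map_one] at h1
      rw [htw, inv_inv]
      simpa [htw1] using h1.symm }
  have hT : ∀ g, g ∈ T ↔ tw g = tw 1 := fun _ => Iff.rfl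
  have hHT : H ≤ T := by
    intro a ha
    rw [hT]
    ext h
    rw [htw, htw]
    congr 1
    refine Subtype.ext ?_
    simp [mul_assoc, hH _ h.2 _ ha]
  let O := Set.range tw
  have : Finite O := (Set.finite_range tw).to_subtype
  have := Fintype.ofFinite O
  let W : O → Submodule ℂ V := fun μ => weight ρ ((μ : H →* ℂ) : H → ℂ)
  let Φ : (∀ μ : O, W μ) →ₗ[ℂ] V := ∑ μ : O, (W μ).subtype ∘ₗ LinearMap.proj μ
  have hΦ : ∀ f, Φ f = ∑ μ : O, (f μ : V) := fun f => by simp [Φ, LinearMap.sum_apply]
  have hinj : Function.Injective Φ := by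
    refine (injective_iff_map_eq_zero _).2 fun f hf => funext fun ν => Subtype.ext ?_
    have h1 := congrArg (weightProj ρ ((ν : H →* ℂ) : H → ℂ)) hf
    obtain ⟨g, hg⟩ := ν.2
    have hν : ∀ h, (ν : H →* ℂ) h ≠ 0 := fun h => hg ▸ hne g h
    rw [hΦ, map_sum, map_zero, Finset.sum_eq_single ν (fun μ _ hμ => weightProj_apply_other ρ _ _
      (fun e => hμ (Subtype.ext (DFunLike.coe_injective e))) hν (f μ).2)
      (fun h => absurd (Finset.mem_univ ν) h), weightProj_apply_self ρ _ hν (f ν).2] at h1
    exact h1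
  have hW : ∀ μ : O, W μ ≤ LinearMap.range Φ := fun μ v hv =>
    ⟨Pi.single μ ⟨v, hv⟩, by
      rw [hΦ, Finset.sum_eq_single μ (fun ν _ hν => by simp [Pi.single_eq_of_ne hν])
        (fun h => absurd (Finset.mem_univ μ) h), Pi.single_eq_same]⟩
  have hsurj : Function.Surjective Φ := by
    rw [← LinearMap.range_eq_top]
    let U : Subrepresentation ρ := ⟨LinearMap.range Φ, by
      rintro a _ ⟨f, rfl⟩
      rw [hΦ, map_sum]
      refine Submodule.sum_mem _ fun μ _ => ?_
      obtain ⟨g, hg⟩ := μ.2
      have h1 : (f μ : V) ∈ weight ρ (tw g : H → ℂ) := hg ▸ (f μ).2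
      exact hW ⟨tw (a * g), ⟨_, rfl⟩⟩ (hmap a g _ h1)⟩
    rcases hirr.eq_bot_or_eq_top U with h | h
    · exfalso
      have h1 : (v0 : V) ∈ U.toSubmodule := hW ⟨tw 1, ⟨_, rfl⟩⟩ hv1
      rw [h] at h1
      exact hv0' h1
    · exact congrArg Subrepresentation.toSubmodule h
  let W0 := weight ρ (tw 1 : H → ℂ)
  have hdim : ∀ μ : O, finrank ℂ (W μ) = finrank ℂ W0 := by
    rintro ⟨μ, g, rfl⟩
    refine le_antisymm ?_ ?_
    · refine LinearMap.finrank_le_finrank_of_injective (f := (ρ g⁻¹).restrict
        (p := weight ρ (tw g : H → ℂ)) (q := W0) fun v hv => by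
          have := hmap g⁻¹ g v hv
          rwa [inv_mul_cancel] at this) ?_
      intro a b hab
      have := congrArg (ρ g) (congrArg Subtype.val hab)
      simp only [LinearMap.coe_restrict_apply, Representation.self_inv_apply] at this
      exact Subtype.ext this
    · refine LinearMap.finrank_le_finrank_of_injective (f := (ρ g).restrict
        (p := W0) (q := weight ρ (tw g : H → ℂ)) fun v hv => by
          have := hmap g 1 v hv
          rwa [mul_one] at this) ?_
      intro a b hab
      have := congrArg (ρ g⁻¹) (congrArg Subtype.val hab)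
      simp only [LinearMap.coe_restrict_apply, Representation.inv_self_apply] at this
      exact Subtype.ext this
  have hd : finrank ℂ V = Nat.card O * finrank ℂ W0 := by
    rw [← (LinearEquiv.ofBijective Φ ⟨hinj, hsurj⟩).finrank_eq, Module.finrank_pi_fintype,
      Finset.sum_congr rfl fun μ _ => hdim μ, Finset.sum_const, Finset.card_univ, smul_eq_mul,
      Nat.card_eq_fintype_card]
  have hidx : Nat.card O = T.index := by
    symm
    refine Nat.card_eq_of_bijective
      (Quotient.lift (fun g => (⟨tw g, g, rfl⟩ : O)) fun a b hab => ?_) ⟨?_, ?_⟩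
    · have h1 := (hT _).1 (QuotientGroup.leftRel_apply.1 hab)
      refine Subtype.ext (MonoidHom.ext fun h => ?_)
      have h2 := DFunLike.congr_fun h1 (MulAut.conjNormal a⁻¹ h)
      rw [htw, htw, ← MulAut.mul_apply, ← MulAut.mul_apply, ← map_mul, ← map_mul] at h2
      simp only [htw]
      simpa [mul_assoc] using h2.symm
    · intro x y hxy
      induction x using QuotientGroup.induction_on with
      | _ a =>
      induction y using QuotientGroup.induction_on with
      | _ b =>
      rw [QuotientGroup.eq, hT]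
      refine MonoidHom.ext fun h => ?_
      have h1 : tw a = tw b := congrArg Subtype.val hxy
      have h2 := DFunLike.congr_fun h1 (MulAut.conjNormal a h)
      rw [htw, htw, ← MulAut.mul_apply, ← MulAut.mul_apply, ← map_mul, ← map_mul] at h2
      rw [htw, htw]
      simpa [mul_assoc] using h2.symm
    · rintro ⟨_, g, rfl⟩
      exact ⟨QuotientGroup.mk g, rfl⟩
  let P0 : Subrepresentation (ρ.comp T.subtype) := ⟨W0, fun t v hv => by
    have := hmap (t : G) 1 v hv
    rw [mul_one, (hT _).1 t.2] at this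
    exact this⟩
  have hP0 : P0.toRepresentation.IsIrreducible := by
    have hnt : Nontrivial (Subrepresentation P0.toRepresentation) := by
      refine ⟨⟨⊥, ⊤, fun h => ?_⟩⟩
      have h1 : (⟨(v0 : V), hv1⟩ : W0) ∈ (⊤ : Subrepresentation P0.toRepresentation).toSubmodule :=
        Submodule.mem_top
      rw [← h] at h1
      exact hv0' (congrArg Subtype.val (Submodule.mem_bot (R := ℂ) |>.1 h1))
    refine ⟨fun U => ?_⟩
    by_cases hU : U.toSubmodule = ⊥
    · exact Or.inl (Subrepresentation.toSubmodule_injective hU)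
    right
    let E := weightProj ρ (tw 1 : H → ℂ)
    let Um := U.toSubmodule.map W0.subtype
    let X : Subrepresentation ρ := ⟨⨅ a : G, Um.comap (E ∘ₗ ρ a), fun b v hv => by
      simp only [Submodule.mem_iInf, Submodule.mem_comap, LinearMap.comp_apply] at hv ⊢
      intro a
      have h1 : ρ a (ρ b v) = ρ (a * b) v := by rw [map_mul]; rfl
      rw [h1]
      exact hv (a * b)⟩
    obtain ⟨u, hu, hu0⟩ := Submodule.exists_mem_ne_zero_of_ne_bot hU
    have huX : (u : V) ∈ X.toSubmodule := by
      simp only [X, Submodule.mem_iInf, Submodule.mem_comap, LinearMap.comp_apply]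
      intro a
      by_cases ha : a ∈ T
      · have h1 : ρ a (u : V) ∈ weight ρ (tw 1 : H → ℂ) := P0.apply_mem_toSubmodule ⟨a, ha⟩ u.2
        rw [weightProj_apply_self ρ _ (hne 1) h1]
        exact ⟨_, U.apply_mem_toSubmodule ⟨a, ha⟩ hu, rfl⟩
      · have h1 : ρ a (u : V) ∈ weight ρ (tw (a * 1) : H → ℂ) := hmap a 1 _ u.2
        rw [weightProj_apply_other ρ _ _ (fun e => ha ((hT a).2 (by
          have := DFunLike.coe_injective e
          rwa [mul_one] at this))) (hne 1) h1]
        exact Um.zero_mem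
    rcases hirr.eq_bot_or_eq_top X with h | h
    · rw [h] at huX
      exact absurd (Subtype.ext ((Submodule.mem_bot (R := ℂ)).1 huX)) hu0
    refine Subrepresentation.toSubmodule_injective (eq_top_iff.2 fun w _ => ?_)
    have hw : (w : V) ∈ X.toSubmodule := by rw [h]; exact Submodule.mem_top
    simp only [X, Submodule.mem_iInf, Submodule.mem_comap, LinearMap.comp_apply] at hw
    have h2 := hw 1
    rw [map_one, Module.End.one_apply, weightProj_apply_self ρ _ (hne 1) w.2] at h2
    obtain ⟨w', hw', hww⟩ := h2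
    rwa [← Subtype.ext hww]
  have hdvd : finrank ℂ W0 ∣ (H.subgroupOf T).index := by
    refine finrank_dvd_index_of_scalar P0.toRepresentation (H.subgroupOf T) fun z hz => ?_
    exact ⟨tw 1 ⟨z, hz⟩, LinearMap.ext fun v => Subtype.ext (v.2 ⟨z, hz⟩)⟩
  rw [hd, hidx, ← Subgroup.relIndex_mul_index hHT, mul_comm (H.relIndex T)]
  exact Nat.mul_dvd_mul_left _ hdvd

theorem exists_degree_dvd_index {χ : G → ℂ} (hχ : IsIrrCharacter G χ) (H : Subgroup G) [H.Normal]
    (hH : ∀ a ∈ H, ∀ b ∈ H, a * b = b * a) : ∃ n : ℕ, 0 < n ∧ χ 1 = n ∧ n ∣ H.index := by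
  obtain ⟨n, ρ, hi, rfl⟩ := hχ
  have := nontrivial_of_isIrreducible ρ
  exact ⟨_, finrank_pos, Representation.char_one ρ, finrank_dvd_index ρ H hH⟩

end Cfsg.Agent.Ito
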